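import Cfsg.Agent.Screen.CosetEnum.Core

/-!
# Cosets of the table
-/

set_option autoImplicit false
set_option maxRecDepth 20000

namespace Cfsg.Agent.Chars.Fi22O7.P6

open Cfsg.Agent.Screen.CosetEnum

/-- Packed table, part 0. -/
def cosetTree0 : Tr :=
  (.leaf 0x2700000000b50002500000000b00002400001000ab0002200000000a60002100001000a100020000020009c0001e00000000970001d00001000930001c000020008f0001b000030008a00019000000008500018000010008100017000020007c00016000030007800015000040007300014000000006e00013000010006a00012000020006600011000030006200010000040005e0000f00005000590000e00001000550000d00002000510000c000030004c0000b00004000480000a00005000440000a000000003f00009000020003b00008000030003700007000040003300006000050002f00006000010002b00005000030002700004000040002200003000050001e00003000020001a00002000040001600001000050001200001000030000e000000000500009000000000400005000000000000000)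

/-- Packed table. -/
def cosetTree : Tr := cosetTree0

end Cfsg.Agent.Chars.Fi22O7.P6
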