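import Cfsg.Agent.Screen.CosetEnum.Core

/-!
# Facts of the certificate
-/

set_option autoImplicit false
set_option maxRecDepth 20000

namespace Cfsg.Agent.Chars.Fi22O7.P6

open Cfsg.Agent.Screen.CosetEnum

/-- Packed table, part 0. -/
def factTree0 : Tr :=
  (.leaf 0xb500005000b5000b500004000b5000b500003000b5000b500002000b5000b000001000b5000b500000000ab000b000005000b0000b000004000b0000b000003000b0000a600002000b0000b000000000a1000ab00005000ab000ab00004000ab000ab00003000ab000ab00002000ab000ab000010009c000a600005000a6000a600004000a60009700003000a6000a600001000a6000a60000000093000a100005000a1000a100004000a1000a100003000a10009300002000a1000a1000010008f0009c000050009c0009c000040009c0009c000030009c0008f000000009c0009c000020008a00097000050009700085000040009700097000020009700097000010009700097000000008100093000050009300093000040009300081000030009300093000010007c0008f000050008f0008f000040008f0008f000030008f0008f00002000780008a000050008a0008a000040008a0008a000010008a00078000000008a0008a00003000730006e000050008500085000030008500085000020008500085000010008500085000000006a0008100005000810006a00004000810008100002000810008100001000660007c000050007c0007c000040007c00066000030007c0007c000000007c0007c000020006200078000050007800078000040007800062000010007800078000030005e0007300005000730007300002000730007300001000730005e00000000730007300004000590006e000040006e0006e000030006e0006e000020006e0006e000010006e0006e0000000055000550000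50006a0006a000030006a0006a000020006a0006a000010005100066000050006600051000040006600066000000006600066000020004c0006200005000620006200004000620006200000000620006200003000480005e000050005e0005e000020005e00048000010005e0005e000040004400059000030005900059000020005900059000010005900044000000005900059000050003f00055000040005500055000030005500055000020005500055000010003b0003b00005000510005100003000510005100000000510005100002000370004c000050004c00037000040004c0004c000010004c0004c000000004c0004c000030003300048000050004800033000020004800048000000004800048000040002f0004400003000440004400002000440002f000010004400044000050002b0003f000040003f0003f000030003f0003f000020003f0003f000010003f0003f000000002b0003b000040003b0003b000030003b0003b000000003b0003b000020002700027000050003700037000010003700037000000003700037000030002200033000050003300033000010003300033000000003300033000040001e0002f000030002f0001e000020002f0002f000000002f0002f000050001a0002b000040002b0002b000030002b0002b000020002b0002b000010001a00027000040002700027000010002700027000000002700027000030001600016000050002200022000020002200022000010002200022000000002200022000040001200012000030001e0001e000010001e0001e000000001e0001e000050000e0001a000040001a0001a000030001a0001a000000001a0001a000020000e0001600002000160001600001000160001600000000160001600004000090001200002000120001200001000120001200000000120001200005000050000e000040000e0000e000010000e0000e000000000e0000e0000300005000090000300009000090000200009000090000100009000090000000009000090000500000000050000200005000050000100005000050000000005000050000400000000000000300000000000000200000000000000100000000000000000000)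

/-- Packed table. -/
def factTree : Tr := factTree0

end Cfsg.Agent.Chars.Fi22O7.P6
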