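import Cfsg.Agent.Screen.CosetEnum.Core

/-!
# Rows of the table
-/

set_option autoImplicit false
set_option maxRecDepth 20000

namespace Cfsg.Agent.Chars.Fi22O7.P6

open Cfsg.Agent.Screen.CosetEnum

/-- Packed table, part 0. -/
def rowTree0 : Tr :=
  (.leaf 0xb900029000b800029000b700029000b600029000b500028000b400027000b300028000b200028000b100028000b000026000b500029000af00025000ae00027000ad00027000ac00027000ab00027000aa00024000b400029000a900026000a800026000a700023000b000028000a600026000a500022000a400025000a300025000a200025000a100022000a000021000af000280009f000240009e000240009d000240009b00020000aa000270009c000210009a00023000990001f000a70002600098000230009700023000960001e00095000220009400022000930001e000a100025000920001d000a500026000910002100090000210008f000210008e0001c000a0000250009c000240008d000200008c00020000890001b0009b000240008b000200008a0001c000880001a0009900023000870001f000860001f000850001f0008400019000830001e00082000190009300022000810001e000800001800096000230007f0001d0007e0001d0007d000180007b0001700092000220007c0001d0007a0001c000790001c00077000160008e0002100078000170008a00020000760001b00072000150008900020000750001b000740001b0007300016000880001f000710001a000700001a0006f0001a0006e0001a0006d000140006c00014000820001e0006b000190006a000190006900013000840001f000680001800067000130007d0001d0006500012000800001e00066000180006400017000630001700061000110007b0001d000780001c00062000170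0060000160005d00010000770001c0005f000160005e00011000730001b000580000f000720001b0005c000150005b000150005a0001500059000100006c00019000570001400056000140005500014000540000e0006d0001a000530000e00067000180005200013000500000d000690001900051000130004f000120004e0000d0004b0000c00065000180004d000120004c000120004a00011000470000b0006100017000490000c0005e000160004800011000430000a0005d0001600046000100004500010000440000b00059000150005800015000420000f000410000f000400000f0003f0000f0003e0000a00053000130003d0000e0003c0000e0003a0000900054000140003b0000e00039000090004e0001200036000080005000013000380000d000370000d000350000c00032000070004b000120004900011000340000c000330000c0002e000060004700011000310000b000300000700044000100002f0000b00043000100002d0000a0002c0000a0002b0000a0002a000060003e0000f000390000d000290000900026000050003a0000e0002800009000270000900025000050002100004000360000d0002400008000230000800022000080001d00003000320000c0002000004000300000b0001f000070001e000070002e0000b0001c000060001b0000600019000030002a0000a0001a000060002500008000150000200026000090001800005000170000500016000050001100001000210000800020000070001400004000130000400012000040001d0000700010000030000d0000100019000060000f000030000e00003000080000000015000050000c000020000b000020000a000020000900002000110000400004000000000d00003000070000100006000010000500001000080000200004000010000300000000020000000001000000000000000)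

/-- Packed table. -/
def rowTree : Tr := rowTree0

end Cfsg.Agent.Chars.Fi22O7.P6
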